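import Mathlib

/-!
Multisets of exponents without a centre of Galois symmetry.
-/

set_option autoImplicit false

namespace CfsgLib.SubfieldFix

variable {K : Type*} [Field K] [DecidableEq K]

/-- Exponents `1, -1, 0, …, 0`. -/
def expA (K : Type*) [Field K] (m : ℕ) : Fin (m + 2) → K := Fin.cons 1 (Fin.cons (-1) fun _ => 0)

/-- Exponents `1, 1, -2, 0, …, 0`. -/
def expB (K : Type*) [Field K] (m : ℕ) : Fin (m + 3) → K :=
  Fin.cons 1 (Fin.cons 1 (Fin.cons (-2) fun _ => 0))

theorem count_expA (m : ℕ) (c : K) : (Finset.univ.filter fun i => expA K m i = c).card =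
    (if (1 : K) = c then 1 else 0) + ((if (-1 : K) = c then 1 else 0) + (if (0 : K) = c then m else 0)) := by
  rw [Finset.card_filter, expA, Fin.sum_univ_succ, Fin.sum_univ_succ]
  simp

theorem count_expB (m : ℕ) (c : K) : (Finset.univ.filter fun i => expB K m i = c).card =
    (if (1 : K) = c then 1 else 0) + ((if (1 : K) = c then 1 else 0) +
      ((if (-2 : K) = c then 1 else 0) + (if (0 : K) = c then m else 0))) := by
  rw [Finset.card_filter, expB, Fin.sum_univ_succ, Fin.sum_univ_succ, Fin.sum_univ_succ]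
  simp only [Fin.cons_zero, Fin.cons_succ]
  simp

theorem sum_expA (m : ℕ) : ∑ i, expA K m i = 0 := by
  rw [expA, Fin.sum_univ_succ, Fin.sum_univ_succ]; simp

theorem sum_expB (m : ℕ) : ∑ i, expB K m i = 0 := by
  rw [expB, Fin.sum_univ_succ, Fin.sum_univ_succ, Fin.sum_univ_succ]
  simp only [Fin.cons_zero, Fin.cons_succ, Finset.sum_const_zero]
  ring

theorem mem_expA {m : ℕ} {c : K} (h : (Finset.univ.filter fun i => expA K m i = c).card ≠ 0) :
    c = 1 ∨ c = -1 ∨ (c = 0 ∧ m ≠ 0) := by
  rw [count_expA] at h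
  by_contra hcon
  simp only [not_or, not_and_or, not_not] at hcon
  obtain ⟨h1, h2, h3⟩ := hcon
  rw [if_neg (Ne.symm h1), if_neg (Ne.symm h2)] at h
  rcases h3 with h3 | h3
  · rw [if_neg (Ne.symm h3)] at h; exact h rfl
  · rw [h3] at h; simp at h

theorem mem_expB {m : ℕ} {c : K} (h : (Finset.univ.filter fun i => expB K m i = c).card ≠ 0) :
    c = 1 ∨ c = -2 ∨ (c = 0 ∧ m ≠ 0) := by
  rw [count_expB] at h
  by_contra hcon
  simp only [not_or, not_and_or, not_not] at hcon
  obtain ⟨h1, h2, h3⟩ := hcon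
  rw [if_neg (Ne.symm h1), if_neg (Ne.symm h2)] at h
  rcases h3 with h3 | h3
  · rw [if_neg (Ne.symm h3)] at h; exact h rfl
  · rw [h3] at h; simp at h

theorem not_symm_expA (h2 : (2 : K) ≠ 0) (h3 : (3 : K) ≠ 0) {lam : K} (h0 : lam ≠ 0) (h1 : lam * lam ≠ 1)
    (m : ℕ) (t : K) : ¬ ∀ c, (Finset.univ.filter fun i => expA K m i = lam * c + t).card =
      (Finset.univ.filter fun i => expA K m i = c).card := by
  intro h
  have hu := mem_expA (m := m) (c := lam * 1 + t) (by rw [h 1, count_expA, if_pos rfl]; omega)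
  have hv := mem_expA (m := m) (c := lam * (-1) + t) (by rw [h (-1), count_expA (K := K) m (-1), if_pos (rfl : (-1 : K) = -1)]; omega)
  have hd : lam * 1 + t ≠ lam * (-1) + t := fun e => mul_ne_zero h2 h0 (by linear_combination e)
  have h4 : (4 : K) ≠ 0 := by rw [show (4 : K) = 2 * 2 by norm_num]; exact mul_ne_zero h2 h2
  have h6 : (6 : K) ≠ 0 := by rw [show (6 : K) = 2 * 3 by norm_num]; exact mul_ne_zero h2 h3
  rcases eq_or_ne m 0 with hm | hm
  · rcases hu with hu | hu | ⟨-, hu⟩ <;> rcases hv with hv | hv | ⟨-, hv⟩ <;>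
      first | exact absurd hm (by assumption) | grind
  · have ht := mem_expA (m := m) (c := lam * 0 + t) (by rw [h 0, count_expA, if_pos (rfl : (0 : K) = 0)]; omega)
    rcases hu with hu | hu | ⟨hu, -⟩ <;> rcases hv with hv | hv | ⟨hv, -⟩ <;>
      rcases ht with ht | ht | ⟨ht, -⟩ <;> grind

theorem not_symm_expB (h2 : (2 : K) ≠ 0) (m : ℕ) (h3 : (3 : K) = 0 → m ≠ 0 ∧ m ≠ 3)
    (h5 : (5 : K) = 0 → m ≠ 2) (t : K) : ¬ ∀ c, (Finset.univ.filter fun i => expB K m i = -c + t).card =
      (Finset.univ.filter fun i => expB K m i = c).card := by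
  intro h
  have h10 : (1 : K) ≠ 0 := one_ne_zero
  have h20 : (-2 : K) ≠ 0 := neg_ne_zero.2 h2
  have hu := mem_expB (m := m) (c := -1 + t) (by rw [h 1, count_expB, if_pos rfl]; omega)
  by_cases hr : (3 : K) = 0
  · obtain ⟨hm0, hm3⟩ := h3 hr
    have h21 : (-2 : K) = 1 := by linear_combination -hr
    have hc : ∀ c : K, (Finset.univ.filter fun i => expB K m i = c).card =
        (if (1 : K) = c then 3 else 0) + (if (0 : K) = c then m else 0) := fun c => by
      rw [count_expB, h21]; split_ifs <;> omega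
    have ht := mem_expB (m := m) (c := -0 + t) (by rw [h 0, hc, if_pos (rfl : (0 : K) = 0)]; omega)
    have hq := h 0
    rw [hc, hc, if_neg h10, if_pos rfl, zero_add] at hq
    rcases ht with ht | ht | ⟨ht, -⟩
    · rw [ht, if_pos rfl, if_neg h10.symm] at hq; omega
    · rw [ht, h21, if_pos rfl, if_neg h10.symm] at hq; omega
    · rcases hu with hu | hu | ⟨hu, -⟩ <;> grind
  · have h21 : (1 : K) ≠ -2 := fun e => hr (by linear_combination e)
    have h4 : (4 : K) ≠ 0 := by rw [show (4 : K) = 2 * 2 by norm_num]; exact mul_ne_zero h2 h2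
    have h6 : (6 : K) ≠ 0 := by rw [show (6 : K) = 2 * 3 by norm_num]; exact mul_ne_zero h2 hr
    have hc1 : (Finset.univ.filter fun i => expB K m i = (1 : K)).card = 2 := by
      rw [count_expB, if_pos rfl, if_neg h21.symm, if_neg h10.symm]
    have hc2 : (Finset.univ.filter fun i => expB K m i = (-2 : K)).card = 1 := by
      rw [count_expB, if_neg h21, if_pos rfl, if_neg h20.symm]
    have hv := mem_expB (m := m) (c := -(-2) + t) (by rw [h (-2), hc2]; omega)
    have hq1 := h 1
    rcases eq_or_ne m 0 with hm | hm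
    · rcases hu with hu | hu | ⟨-, hu⟩
      · rcases hv with hv | hv | ⟨-, hv⟩
        · grind
        · grind
        · exact hv hm
      · rw [hu, hc1, hc2] at hq1; omega
      · exact hu hm
    · have hc0 : (Finset.univ.filter fun i => expB K m i = (0 : K)).card = m := by
        rw [count_expB, if_neg h10, if_neg h20, if_pos rfl]; omega
      have ht := mem_expB (m := m) (c := -0 + t) (by rw [h 0, hc0]; exact hm)
      have hq0 := h 0
      rcases ht with ht | ht | ⟨ht, -⟩
      · rw [ht, hc1, hc0] at hq0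
        have h5' : (5 : K) ≠ 0 := fun e => h5 e hq0.symm
        rcases hu with hu | hu | ⟨hu, -⟩ <;> rcases hv with hv | hv | ⟨hv, -⟩ <;> grind
      · rw [ht, hc2, hc0] at hq0
        rcases hu with hu | hu | ⟨hu, -⟩ <;> grind
      · rcases hu with hu | hu | ⟨hu, -⟩ <;> grind

end CfsgLib.SubfieldFix
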