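import Mathlib
import Cfsg.Agent.Lib.PrimeFix.Grow

/-!
Forms over a subfield of operators of prime order.
-/

set_option autoImplicit false

namespace CfsgLib.SubfieldFix

open Module Polynomial CfsgLib.PrimeFix

variable {F : Type*} [Field F] {V : Type*} [AddCommGroup V] [Module F V]

/-- `W` is spanned by at most `N` vectors satisfying a condition relative to the set of all of them. -/
def Gen (P : Set V → V → Prop) (W : Submodule F V) (N : ℕ) : Prop :=
  ∃ S : Set V, S.Finite ∧ S.ncard ≤ N ∧ Submodule.span F S = W ∧ ∀ v ∈ S, P S v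

theorem gen_bot (P : Set V → V → Prop) : Gen P (⊥ : Submodule F V) 0 :=
  ⟨∅, Set.finite_empty, by simp, by simp, by simp⟩

theorem Gen.sup {P : Set V → V → Prop} (hP : ∀ S S' v, S ⊆ S' → P S v → P S' v) {U W : Submodule F V}
    {N M : ℕ} (hU : Gen P U N) (hW : Gen P W M) : Gen P (U ⊔ W) (N + M) := by
  obtain ⟨S, hS, hSN, hSs, hSP⟩ := hU
  obtain ⟨S', hS', hSM, hSs', hSP'⟩ := hW
  refine ⟨S ∪ S', hS.union hS', (Set.ncard_union_le _ _).trans (Nat.add_le_add hSN hSM),
    by rw [Submodule.span_union, hSs, hSs'], ?_⟩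
  rintro v (hv | hv)
  · exact hP _ _ v Set.subset_union_left (hSP v hv)
  · exact hP _ _ v Set.subset_union_right (hSP' v hv)

theorem exists_basis_of_gen [FiniteDimensional F V] {P : Set V → V → Prop} {n : ℕ}
    (hn : finrank F V = n) (h : Gen P (⊤ : Submodule F V) n) :
    ∃ b : Basis (Fin n) F V, ∀ j, P (Set.range b) (b j) := by
  classical
  obtain ⟨S, hS, hSN, hSs, hSP⟩ := h
  haveI := hS.fintype
  have hcard : Fintype.card S = finrank F V := by
    refine le_antisymm ?_ ?_
    · rw [hn, ← Nat.card_eq_fintype_card, Nat.card_coe_set_eq]; exact hSN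
    · have h1 := finrank_range_le_card (R := F) (Subtype.val : S → V)
      rw [Set.finrank, Subtype.range_coe, hSs, finrank_top] at h1
      exact h1
  let b₀ : Basis S F V := basisOfTopLeSpanOfCardEqFinrank (Subtype.val : S → V)
    (by rw [Subtype.range_coe, hSs]) hcard
  have hb₀ : ⇑b₀ = Subtype.val := coe_basisOfTopLeSpanOfCardEqFinrank _ _ _
  let e : S ≃ Fin n := Fintype.equivFinOfCardEq (hcard.trans hn)
  refine ⟨b₀.reindex e, fun j => ?_⟩
  have hr : Set.range (b₀.reindex e) = S := by rw [Basis.range_reindex, hb₀, Subtype.range_coe]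
  rw [hr, Basis.reindex_apply, hb₀]
  exact hSP _ (e.symm j).2

section induct

variable [Fintype F] [FiniteDimensional F V] {r : ℕ} [hr : Fact r.Prime] {T : Module.End F V}

/-- Invariant subspaces are assembled from any supply of invariant pieces. -/
theorem gen_of_units (hrF : (r : F) ≠ 0) (hT : T ^ r = 1) {P : Set V → V → Prop}
    (hP : ∀ S S' v, S ⊆ S' → P S v → P S' v)
    (hunit : ∀ W : Submodule F V, Inv T W → W ≠ ⊥ →
      ∃ U, U ≤ W ∧ Inv T U ∧ U ≠ ⊥ ∧ Gen P U (finrank F U)) :
    ∀ W : Submodule F V, Inv T W → Gen P W (finrank F W) := by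
  intro W
  induction hk : finrank F W using Nat.strong_induction_on generalizing W with
  | _ k ih =>
  intro hW
  rcases eq_or_ne W ⊥ with rfl | hne
  · rw [← hk, finrank_bot]; exact gen_bot P
  obtain ⟨U, hUW, hUi, hU0, hU⟩ := hunit W hW hne
  obtain ⟨M, hMW, hMi, hd, hdis⟩ := exists_inv_compl hrF hT hUi hW hUW
  have hUpos : finrank F U ≠ 0 := fun h => hU0 (Submodule.finrank_eq_zero.1 h)
  have hsum : U ⊔ M = W := Submodule.eq_of_le_of_finrank_le (sup_le hUW hMW) (by
    have h' := Submodule.finrank_sup_add_finrank_inf_eq U M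
    rw [hdis.eq_bot, finrank_bot] at h'
    omega)
  rw [← hk, ← hd, ← hsum]
  exact hU.sup hP (ih _ (by omega) M rfl hMi)

/-- A factor of the cyclotomic polynomial has coefficients in the subfield when the orders agree. -/
theorem coeff_mem_of_order_eq (F₀ : Subfield F) (hrF : (r : F) ≠ 0)
    (hord : (Nat.card F₀ : ZMod r) = Fintype.card F) {f : F[X]} (hfm : f.Monic) (hirr : Irreducible f)
    (hdvd : f ∣ cyclotomic r F) : ∀ j, f.coeff j ∈ F₀ := by
  classical
  haveI : Fintype F₀ := Fintype.ofFinite _
  have hrF₀ : (r : F₀) ≠ 0 := fun h => hrF (by simpa using congrArg Subtype.val h)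
  have hc0 : cyclotomic r F₀ ≠ 0 := cyclotomic_ne_zero _ _
  have hdvd' : f ∣ (UniqueFactorizationMonoid.normalizedFactors (cyclotomic r F₀)).prod.map F₀.subtype := by
    refine hdvd.trans ?_
    rw [← map_cyclotomic r F₀.subtype]
    exact Polynomial.map_dvd _ (UniqueFactorizationMonoid.prod_normalizedFactors hc0).symm.dvd
  rw [Polynomial.map_multiset_prod] at hdvd'
  obtain ⟨g, hg, hfg⟩ := hirr.prime.exists_mem_multiset_dvd hdvd'
  obtain ⟨g₀, hg₀, rfl⟩ := Multiset.mem_map.1 hg
  have hirr₀ := UniqueFactorizationMonoid.irreducible_of_normalized_factor g₀ hg₀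
  have hm₀ : g₀.Monic := by
    rw [← UniqueFactorizationMonoid.normalize_normalized_factor g₀ hg₀]
    exact monic_normalize hirr₀.ne_zero
  have hd₀ := natDegree_factor hrF₀ hirr₀ (UniqueFactorizationMonoid.dvd_of_mem_normalizedFactors hg₀)
  rw [← Nat.card_eq_fintype_card, hord, ← natDegree_factor hrF hirr hdvd] at hd₀
  have heq : g₀.map F₀.subtype = f :=
    eq_of_monic_of_dvd_of_natDegree_le hfm (hm₀.map _) hfg (by rw [natDegree_map, hd₀])
  intro j
  rw [← heq, coeff_map]
  exact (g₀.coeff j).2

/-- The condition of spanning a form over the subfield. -/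
def Rat (F₀ : Subfield F) (T : Module.End F V) (S : Set V) (v : V) : Prop := T v ∈ Submodule.span F₀ S

omit [Fintype F] [FiniteDimensional F V] in
theorem rat_mono (F₀ : Subfield F) (T : Module.End F V) :
    ∀ S S' v, S ⊆ S' → Rat F₀ T S v → Rat F₀ T S' v :=
  fun _ _ _ h hv => Submodule.span_mono h hv

/-- An operator of order `r` has a form over a subfield of the same order. -/
theorem gen_rat (F₀ : Subfield F) (hrF : (r : F) ≠ 0) (hord : (Nat.card F₀ : ZMod r) = Fintype.card F)
    (hT : T ^ r = 1) : Gen (Rat F₀ T) (⊤ : Submodule F V) (finrank F V) := by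
  rw [← finrank_top F V]
  refine gen_of_units hrF hT (rat_mono F₀ T) (fun W hW hne => ?_) ⊤ fun _ _ => trivial
  by_cases hfix : ∃ v ∈ W, v ≠ 0 ∧ T v = v
  · obtain ⟨v, hv, hv0, hTv⟩ := hfix
    refine ⟨F ∙ v, (Submodule.span_singleton_le_iff_mem _ _).2 hv, fun w hw => ?_, by simpa using hv0, ?_⟩
    · obtain ⟨c, rfl⟩ := Submodule.mem_span_singleton.1 hw
      rw [map_smul, hTv]; exact hw
    · rw [finrank_span_singleton hv0]
      refine ⟨{v}, Set.finite_singleton v, by simp, rfl, ?_⟩
      rintro w rfl
      show T w ∈ _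
      rw [hTv]; exact Submodule.subset_span rfl
  push Not at hfix
  have hf : Fpf T W := fun v hv hTv => by
    by_contra h0
    exact hfix v hv h0 hTv
  obtain ⟨f, hfm, hirr, hdvd, hker⟩ := exists_factor_lt hrF hT hW hf (c := 0)
    (by rw [mul_zero]; exact Nat.pos_of_ne_zero fun h0 => hne (Submodule.finrank_eq_zero.1 h0))
  obtain ⟨v, hv, hv0⟩ := Submodule.exists_mem_ne_zero_of_ne_bot
    (p := W ⊓ LinearMap.ker (aeval T f)) (fun h => by rw [h, finrank_bot] at hker; omega)
  set i := f.natDegree
  set S : Set V := Set.range fun j : Fin i => (T ^ (j : ℕ)) v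
  have htop : (T ^ i) v ∈ Submodule.span F₀ S := by
    have h : aeval T f v = 0 := hv.2
    rw [hfm.as_sum, map_add, LinearMap.add_apply, aeval_X_pow, add_eq_zero_iff_eq_neg, map_sum,
      LinearMap.sum_apply] at h
    rw [h]
    refine Submodule.neg_mem _ (Submodule.sum_mem _ fun j hj => ?_)
    rw [map_mul, aeval_C, aeval_X_pow, Module.End.mul_apply, Module.algebraMap_end_apply]
    exact (Submodule.span F₀ S).smul_mem (⟨_, coeff_mem_of_order_eq F₀ hrF hord hfm hirr hdvd j⟩ : F₀)
      (Submodule.subset_span ⟨⟨j, Finset.mem_range.1 hj⟩, rfl⟩)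
  have hrat : ∀ w ∈ S, T w ∈ Submodule.span F₀ S := by
    rintro _ ⟨j, rfl⟩
    rw [← Module.End.mul_apply, ← pow_succ']
    rcases eq_or_lt_of_le (show (j : ℕ) + 1 ≤ i from j.2) with h | h
    · rwa [h]
    · exact Submodule.subset_span ⟨⟨_, h⟩, rfl⟩
  have hle : Submodule.span F₀ S ≤ (Submodule.span F S).restrictScalars F₀ :=
    Submodule.span_le.2 Submodule.subset_span
  have hinv : Inv T (Submodule.span F S) := fun w hw => by
    induction hw using Submodule.span_induction with
    | mem z hz => exact hle (hrat z hz)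
    | zero => simp
    | add a b _ _ ha hb => rw [map_add]; exact Submodule.add_mem _ ha hb
    | smul c a _ ha => rw [map_smul]; exact Submodule.smul_mem _ c ha
  have hcyc : cyc T v = Submodule.span F S := by
    refine le_antisymm (cyc_le hinv (Submodule.subset_span ⟨⟨0, hirr.natDegree_pos⟩, by simp⟩))
      (Submodule.span_le.2 ?_)
    rintro _ ⟨j, rfl⟩
    exact mem_cyc.2 ⟨X ^ (j : ℕ), by rw [aeval_X_pow]⟩
  refine ⟨cyc T v, cyc_le hW hv.1, inv_cyc T v, fun h => hv0 ?_, S, Set.finite_range _, ?_, hcyc.symm, hrat⟩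
  · exact (Submodule.mem_bot F).1 (h ▸ self_mem_cyc T v)
  · rw [finrank_cyc hrF hfm hirr hdvd hv.2 hv0, ← natDegree_factor hrF hirr hdvd, ← Nat.card_coe_set_eq]
    exact (Finite.card_range_le _).trans_eq (Nat.card_fin i)

/-- A basis of eigenvectors, when the roots of unity are in the field. -/
theorem exists_eigenbasis {n : ℕ} (hn : finrank F V = n) (hrF : (r : F) ≠ 0)
    (hi : orderOf (Fintype.card F : ZMod r) = 1) (hT : T ^ r = 1) :
    ∃ (b : Basis (Fin n) F V) (d : Fin n → F), ∀ j, T (b j) = d j • b j := by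
  have h : Gen (fun _ v => ∃ a : F, T v = a • v) (⊤ : Submodule F V) n := by
    rw [← hn, ← finrank_top F V]
    refine gen_of_units hrF hT (fun _ _ _ _ h => h) (fun W hW hne => ?_) ⊤ fun _ _ => trivial
    obtain ⟨v, hv, hv0, a, hTv⟩ : ∃ v ∈ W, v ≠ 0 ∧ ∃ a : F, T v = a • v := by
      by_contra hcon
      push Not at hcon
      have hf : Fpf T W := fun v hv hTv => by
        by_contra h0
        exact hcon v hv h0 1 (by rw [hTv, one_smul])
      obtain ⟨f, hfm, hirr, hdvd, hker⟩ := exists_factor_lt hrF hT hW hf (c := 0)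
        (by rw [mul_zero]; exact Nat.pos_of_ne_zero fun h0 => hne (Submodule.finrank_eq_zero.1 h0))
      obtain ⟨v, hv, hv0⟩ := Submodule.exists_mem_ne_zero_of_ne_bot
        (p := W ⊓ LinearMap.ker (aeval T f)) (fun h => by rw [h, finrank_bot] at hker; omega)
      have hd := natDegree_factor hrF hirr hdvd
      rw [hi] at hd
      have h0 : aeval T f v = 0 := hv.2
      rw [hfm.eq_X_add_C hd, map_add, aeval_X, aeval_C, LinearMap.add_apply, Module.algebraMap_end_apply,
        add_eq_zero_iff_eq_neg, ← neg_smul] at h0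
      exact hcon v hv.1 hv0 _ h0
    refine ⟨F ∙ v, (Submodule.span_singleton_le_iff_mem _ _).2 hv, fun w hw => ?_, by simpa using hv0, ?_⟩
    · obtain ⟨c, rfl⟩ := Submodule.mem_span_singleton.1 hw
      rw [map_smul, hTv, smul_smul]
      exact Submodule.mem_span_singleton.2 ⟨c * a, rfl⟩
    · rw [finrank_span_singleton hv0]
      exact ⟨{v}, Set.finite_singleton v, by simp, rfl, fun w hw => ⟨a, by rw [Set.mem_singleton_iff.1 hw, hTv]⟩⟩
  obtain ⟨b, hb⟩ := exists_basis_of_gen hn h
  choose d hd using hb
  exact ⟨b, d, hd⟩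

omit [Fintype F] [FiniteDimensional F V] hr in
/-- An eigenbasis whose eigenvalues are permuted by the Galois involution gives a form over the subfield. -/
theorem gen_rat_of_balanced [DecidableEq F] (F₀ : Subfield F) (σ : F →+* F) (hσσ : ∀ a, σ (σ a) = a)
    (hfix : ∀ a, σ a = a → a ∈ F₀) {n : ℕ} (b : Fin n → V) (d : Fin n → F) (hb : ∀ j, T (b j) = d j • b j)
    (B : Finset (Fin n)) (hbal : ∀ a, (B.filter fun j => d j = σ a).card = (B.filter fun j => d j = a).card) :
    Gen (Rat F₀ T) (Submodule.span F (b '' ↑B)) B.card := by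
  induction hk : B.card using Nat.strong_induction_on generalizing B with
  | _ k ih =>
  rcases B.eq_empty_or_nonempty with rfl | ⟨j, hj⟩
  · rw [Finset.coe_empty, Set.image_empty, Submodule.span_empty, ← hk, Finset.card_empty]
    exact gen_bot _
  by_cases hfx : σ (d j) = d j
  · have hbal' : ∀ a, ((B.erase j).filter fun l => d l = σ a).card = ((B.erase j).filter fun l => d l = a).card := by
      intro a
      rw [Finset.filter_erase, Finset.filter_erase, Finset.card_erase_eq_ite, Finset.card_erase_eq_ite, hbal a]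
      have hiff : d j = σ a ↔ d j = a := ⟨fun h => by rw [← hfx, h, hσσ], fun h => by rw [← h, hfx]⟩
      simp only [Finset.mem_filter, hiff]
    have h1 := ih (B.erase j).card (hk ▸ Finset.card_erase_lt_of_mem hj) (B.erase j) hbal' rfl
    have h2 : Gen (Rat F₀ T) (Submodule.span F {b j}) 1 := by
      refine ⟨{b j}, Set.finite_singleton _, by simp, rfl, ?_⟩
      intro v hv
      rw [Set.mem_singleton_iff.1 hv]
      show T (b j) ∈ _
      rw [hb]
      exact (Submodule.span F₀ {b j}).smul_mem (⟨_, hfix _ hfx⟩ : F₀) (Submodule.subset_span rfl)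
    have h3 := h2.sup (rat_mono F₀ T) h1
    rwa [← Submodule.span_union, ← Set.image_singleton, ← Set.image_union, ← Finset.coe_singleton,
      ← Finset.coe_union, ← Finset.insert_eq, Finset.insert_erase hj,
      Finset.card_erase_of_mem hj, hk, Nat.add_sub_cancel' (by
        rw [← hk]; exact Finset.card_pos.2 ⟨j, hj⟩)] at h3
  · obtain ⟨j', hj'⟩ : (B.filter fun l => d l = σ (d j)).Nonempty := by
      rw [← Finset.card_pos, hbal]
      exact Finset.card_pos.2 ⟨j, Finset.mem_filter.2 ⟨hj, rfl⟩⟩
    obtain ⟨hj'B, hd'⟩ := Finset.mem_filter.1 hj'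
    have hne : j ≠ j' := fun h => hfx (by rw [← hd', h])
    set B' := (B.erase j).erase j' with hB'
    have hj'e : j' ∈ B.erase j := Finset.mem_erase.2 ⟨Ne.symm hne, hj'B⟩
    have hcard : B'.card + 2 = k := by
      rw [← hk, ← Finset.card_erase_add_one hj, ← Finset.card_erase_add_one hj'e]
    have hbal' : ∀ a, (B'.filter fun l => d l = σ a).card = (B'.filter fun l => d l = a).card := by
      intro a
      simp only [hB', Finset.filter_erase, Finset.card_erase_eq_ite, Finset.mem_erase, Finset.mem_filter,
        hbal a, hj, hj'B, true_and]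
      have h1 : d j = σ a ↔ d j' = a := ⟨fun h => by rw [hd', h, hσσ], fun h => by rw [← h, hd', hσσ]⟩
      have h2 : d j' = σ a ↔ d j = a :=
        ⟨fun h => σ.injective (by rw [← hd', h]), fun h => by rw [hd', h]⟩
      simp only [h1, h2, Ne.symm hne, ne_eq, not_false_eq_true, true_and]
      split_ifs <;> omega
    have hih := ih B'.card (by omega) B' hbal' rfl
    have h2 : Gen (Rat F₀ T) (Submodule.span F {b j, b j'}) 2 := by
      set S : Set V := {b j + b j', d j • b j + d j' • b j'} with hS
      refine ⟨S, Set.toFinite _, ?_, ?_, ?_⟩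
      · rw [hS]
        exact (Set.ncard_insert_le _ _).trans (by simp)
      · refine le_antisymm (Submodule.span_le.2 ?_) (Submodule.span_le.2 ?_)
        · rintro v (rfl | rfl)
          · exact Submodule.add_mem _ (Submodule.subset_span (Or.inl rfl)) (Submodule.subset_span (Or.inr rfl))
          · exact Submodule.add_mem _ (Submodule.smul_mem _ _ (Submodule.subset_span (Or.inl rfl)))
              (Submodule.smul_mem _ _ (Submodule.subset_span (Or.inr rfl)))
        · have hdne : d j - d j' ≠ 0 := sub_ne_zero.2 fun h => hfx (by rw [← hd', ← h])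
          have m1 : b j + b j' ∈ Submodule.span F S := Submodule.subset_span (Or.inl rfl)
          have m2 : d j • b j + d j' • b j' ∈ Submodule.span F S := Submodule.subset_span (Or.inr rfl)
          have e1 : b j ∈ Submodule.span F S := by
            refine (Submodule.smul_mem_iff _ hdne).1 ?_
            have := Submodule.sub_mem _ m2 (Submodule.smul_mem _ (d j') m1)
            convert this using 1
            module
          have e2 : b j' ∈ Submodule.span F S := by
            have := Submodule.sub_mem _ m1 e1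
            rwa [add_sub_cancel_left] at this
          rintro v (rfl | rfl)
          · exact e1
          · exact e2
      · have ht : d j + d j' ∈ F₀ := hfix _ (by rw [map_add, hd', hσσ, add_comm])
        have hp : -(d j * d j') ∈ F₀ := hfix _ (by rw [map_neg, map_mul, hd', hσσ, mul_comm])
        rintro v (rfl | rfl)
        · show T _ ∈ _
          rw [map_add, hb, hb]
          exact Submodule.subset_span (Or.inr rfl)
        · show T _ ∈ _
          have h := Submodule.add_mem _
            ((Submodule.span F₀ S).smul_mem (⟨_, ht⟩ : F₀) (Submodule.subset_span (Or.inr rfl)))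
            ((Submodule.span F₀ S).smul_mem (⟨_, hp⟩ : F₀) (Submodule.subset_span (Or.inl rfl)))
          convert h using 1
          simp only [map_add, map_smul, hb, Subfield.smul_def]
          module
    have h3 := h2.sup (rat_mono F₀ T) hih
    have hins : insert j (insert j' B') = B := by
      rw [hB', Finset.insert_erase hj'e, Finset.insert_erase hj]
    rw [← Submodule.span_union, show ({b j, b j'} : Set V) ∪ b '' ↑B' = b '' ↑B by
      conv_rhs => rw [← hins, Finset.coe_insert, Finset.coe_insert, Set.image_insert_eq, Set.image_insert_eq]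
      rw [Set.insert_union, Set.singleton_union], add_comm, hcard] at h3
    exact h3

end induct

end CfsgLib.SubfieldFix
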