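import Mathlib
import Cfsg.Agent.Lib.LinFix.Subfield
import Cfsg.Agent.Lib.Linear.Card

/-!
Primes dividing the index of a subfield group.
-/

set_option autoImplicit false
open scoped MatrixGroups

namespace CfsgLib.SubfieldFix

open Matrix Cfsg.Geo

variable {F : Type*} [Field F] [Fintype F]

/-- A prime other than the degree dividing the index comes from a factor `(q ^ j - 1) / (q₀ ^ j - 1)` with `2 ≤ j`. -/
theorem exists_exponent_of_dvd_index (F₀ : Subfield F) {n k r : ℕ} [hr : Fact r.Prime] (hn : 1 ≤ n) (hk : k.Prime)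
    (hrk : r ≠ k) (hrq : (Nat.card F₀ : ZMod r) ≠ 0) (hcard : Fintype.card F = Nat.card F₀ ^ k)
    (hΩ : r ∣ ((subfieldSubgroup F₀ 1).comap
      (Matrix.SpecialLinearGroup.toGL : SL(n, F) →* GL (Fin n) F)).index) :
    ∃ j, 2 ≤ j ∧ j ≤ n ∧ ((Nat.card F₀ : ZMod r) ^ j) ^ k = 1 ∧ (Nat.card F₀ : ZMod r) ^ j ≠ 1 := by
  classical
  haveI : Fintype F₀ := Fintype.ofFinite _
  set H := (subfieldSubgroup F₀ 1).comap
    (Matrix.SpecialLinearGroup.toGL : SL(n, F) →* GL (Fin n) F) with hH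
  set q₀ := Nat.card F₀ with hq₀
  have hq2 : 2 ≤ q₀ := Finite.one_lt_card
  let φ : SL(n, F₀) →* SL(n, F) := Matrix.SpecialLinearGroup.map F₀.subtype
  have hinj : Function.Injective φ := fun a b h => by
    apply Subtype.ext
    exact Matrix.map_injective (f := F₀.subtype) Subtype.val_injective (congrArg Subtype.val h)
  have hle : φ.range ≤ H := by
    rintro _ ⟨a, rfl⟩
    rw [hH, LinFix.mem_subfield_iff]
    exact ⟨Matrix.SpecialLinearGroup.toGL a, 1, by rw [Units.val_one, one_smul]; rfl⟩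
  obtain ⟨e, he⟩ : Nat.card SL(n, F₀) ∣ Nat.card H := by
    have := Subgroup.card_dvd_of_le hle
    rwa [← Nat.card_congr (MonoidHom.ofInjective hinj).toEquiv] at this
  have hgeom : ∀ j : ℕ, (q₀ ^ j) ^ k - 1 =
      (∑ l ∈ Finset.range k, (q₀ ^ j) ^ l) * (q₀ ^ j - 1) := fun j =>
    (geom_sum_mul_of_one_le (Nat.one_le_pow _ _ (by omega)) k).symm
  have hfac : ∀ i : Fin n, Fintype.card F ^ n - Fintype.card F ^ (i : ℕ) =
      ((q₀ ^ (i : ℕ)) ^ (k - 1) * ∑ l ∈ Finset.range k, (q₀ ^ (n - i)) ^ l) *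
        (q₀ ^ n - q₀ ^ (i : ℕ)) := fun i => by
    obtain ⟨d, hd⟩ := Nat.exists_eq_add_of_le i.2.le
    have hd' : n - i = d := by omega
    have hk1 : k = k - 1 + 1 := (Nat.sub_add_cancel hk.pos).symm
    rw [hcard, hd']
    clear hd'
    generalize (i : ℕ) = j at hd ⊢
    conv_lhs => rw [hd, pow_add, ← Nat.mul_sub_one, ← pow_mul, ← pow_mul, mul_comm k j,
      mul_comm k d, pow_mul, pow_mul, hgeom, hk1, pow_succ]
    conv_rhs => arg 2; rw [hd, pow_add, ← Nat.mul_sub_one]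
    rw [← hk1]
    ring
  have h1 := CfsgLib.Linear.card_SL_mul (F := F) n hn
  have h0 := CfsgLib.Linear.card_SL_mul (F := F₀) n hn
  rw [Finset.prod_congr rfl fun i _ => hfac i, Finset.prod_mul_distrib] at h1
  set S := ∑ l ∈ Finset.range k, (q₀ ^ 1) ^ l with hS
  rw [← Nat.card_eq_fintype_card, ← hq₀] at h0
  rw [← h0, ← H.card_mul_index, he, hcard, ← pow_one q₀, hgeom 1, ← hS, pow_one] at h1
  have hSL : 0 < (q₀ - 1) * Nat.card SL(n, F₀) := Nat.mul_pos (by omega) Nat.card_pos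
  have hmain : S * e * H.index = ∏ i : Fin n, (q₀ ^ (i : ℕ)) ^ (k - 1) * ∑ l ∈ Finset.range k, (q₀ ^ (n - i)) ^ l :=
    Nat.eq_of_mul_eq_mul_right hSL (by
    calc S * e * H.index * ((q₀ - 1) * Nat.card SL(n, F₀))
        = S * (q₀ - 1) * (Nat.card SL(n, F₀) * e * H.index) := by ring
      _ = _ := h1)
  obtain ⟨m, rfl⟩ := Nat.exists_eq_add_of_le' hn
  rw [Fin.prod_univ_castSucc, Fin.val_last, Nat.add_sub_cancel_left, ← hS] at hmain
  have hS0 : 0 < S := Finset.sum_pos (fun l _ => pow_pos (pow_pos (by omega) _) _)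
    (Finset.nonempty_range_iff.2 hk.ne_zero)
  have hdiv : H.index ∣ (∏ i : Fin m, (q₀ ^ ((Fin.castSucc i : Fin (m + 1)) : ℕ)) ^ (k - 1) *
      ∑ l ∈ Finset.range k, (q₀ ^ (m + 1 - ((Fin.castSucc i : Fin (m + 1)) : ℕ))) ^ l) * (q₀ ^ m) ^ (k - 1) :=
    ⟨e, Nat.eq_of_mul_eq_mul_left hS0 ((show _ = _ * ((q₀ ^ m) ^ (k - 1) * S) by ring).trans (hmain.symm.trans (by ring)))⟩
  have hnq : ∀ a b : ℕ, ¬ r ∣ (q₀ ^ a) ^ b := fun a b h =>
    hrq ((ZMod.natCast_eq_zero_iff _ _).2 (hr.out.dvd_of_dvd_pow (hr.out.dvd_of_dvd_pow h)))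
  obtain ⟨i, -, hi⟩ := hr.out.prime.exists_mem_finset_dvd
    ((hr.out.dvd_mul.1 (hΩ.trans hdiv)).resolve_right (hnq _ _))
  have hsum : ((∑ l ∈ Finset.range k, (q₀ ^ (m + 1 - (i : ℕ))) ^ l : ℕ) : ZMod r) = 0 :=
    (ZMod.natCast_eq_zero_iff _ _).2 ((hr.out.dvd_mul.1 hi).resolve_left (hnq _ _))
  refine ⟨m + 1 - (i : ℕ), by omega, by omega, ?_, fun h1' => ?_⟩
  · have h := geom_sum_mul ((q₀ : ZMod r) ^ (m + 1 - (i : ℕ))) k
    rw [Nat.cast_sum] at hsum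
    simp only [Nat.cast_pow] at hsum
    rw [hsum, zero_mul] at h
    exact (sub_eq_zero.1 h.symm)
  · rw [Nat.cast_sum] at hsum
    simp only [Nat.cast_pow, h1', one_pow, Finset.sum_const, Finset.card_range, nsmul_one] at hsum
    exact hrk ((Nat.prime_dvd_prime_iff_eq hr.out hk).1 ((ZMod.natCast_eq_zero_iff _ _).1 hsum))

end CfsgLib.SubfieldFix
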