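import Mathlib
import Cfsg.Agent.Lib.SubfieldFix.Descent
import Cfsg.Agent.Lib.LinFix.Subfield
import Cfsg.Agent.Lib.Semisimple.GL

/-!
Conjugacy of matrices of prime order into subfield groups: construction and obstructions.
-/

set_option autoImplicit false
open scoped MatrixGroups

namespace CfsgLib.SubfieldFix

open Module Matrix Polynomial Cfsg.Geo

variable {F : Type*} [Field F] {n : ℕ} (F₀ : Subfield F)

/-- A form over the subfield gives a conjugating matrix. -/
theorem exists_conj_of_gen {u : Matrix (Fin n) (Fin n) F} (hu : IsUnit u)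
    (h : Gen (Rat F₀ (Matrix.toLin' u)) (⊤ : Submodule F (Fin n → F)) n) :
    ∃ (A : GL (Fin n) F) (g : GL (Fin n) F₀),
      (A : Matrix (Fin n) (Fin n) F) * u = (g : Matrix (Fin n) (Fin n) F₀).map F₀.subtype * A := by
  classical
  obtain ⟨b, hb⟩ := exists_basis_of_gen (Module.finrank_fin_fun F) h
  have hmem : ∀ v ∈ Submodule.span F₀ (Set.range b), ∀ i, b.repr v i ∈ F₀ := by
    intro v hv
    induction hv using Submodule.span_induction with
    | mem z hz =>
      obtain ⟨j, rfl⟩ := hz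
      intro i
      rw [b.repr_self, Finsupp.single_apply]
      split_ifs
      · exact F₀.one_mem
      · exact F₀.zero_mem
    | zero => intro i; simp [F₀.zero_mem]
    | add x y _ _ hx hy => intro i; rw [map_add, Finsupp.add_apply]; exact F₀.add_mem (hx i) (hy i)
    | smul c x _ hx =>
      intro i
      rw [Subfield.smul_def, map_smul, Finsupp.smul_apply, smul_eq_mul]
      exact F₀.mul_mem c.2 (hx i)
  let M₀ : Matrix (Fin n) (Fin n) F₀ := fun i j => ⟨b.repr (Matrix.toLin' u (b j)) i, hmem _ (hb j) i⟩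
  have hM : M₀.map F₀.subtype = LinearMap.toMatrix b b (Matrix.toLin' u) := by
    ext i j
    rw [LinearMap.toMatrix_apply]
    rfl
  let Q : Matrix (Fin n) (Fin n) F := b.toMatrix (Pi.basisFun F (Fin n))
  let P : Matrix (Fin n) (Fin n) F := (Pi.basisFun F (Fin n)).toMatrix b
  let A : GL (Fin n) F := ⟨Q, P, Basis.toMatrix_mul_toMatrix_flip _ _, Basis.toMatrix_mul_toMatrix_flip _ _⟩
  have hQ : Q * u = M₀.map F₀.subtype * Q := by
    have h1 : Q * u * P = M₀.map F₀.subtype := by
      rw [hM, ← basis_toMatrix_mul_linearMap_toMatrix_mul_basis_toMatrix b (Pi.basisFun F (Fin n)) b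
        (Pi.basisFun F (Fin n)) (Matrix.toLin' u), LinearMap.toMatrix_eq_toMatrix', LinearMap.toMatrix'_toLin']
    rw [← h1, mul_assoc (Q * u), show P * Q = 1 from A.inv_val, mul_one]
  have hdet : M₀.det ≠ 0 := by
    intro h0
    have h1 := congrArg Matrix.det hQ
    rw [Matrix.det_mul, Matrix.det_mul, ← RingHom.mapMatrix_apply, ← RingHom.map_det, h0, map_zero,
      zero_mul] at h1
    exact mul_ne_zero ((Matrix.isUnit_iff_isUnit_det _).1 A.isUnit).ne_zero
      ((Matrix.isUnit_iff_isUnit_det _).1 hu).ne_zero h1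
  exact ⟨A, GeneralLinearGroup.mkOfDetNeZero M₀ hdet, hQ⟩

/-- A scalar multiple of a matrix of order prime to `p` with a form over the subfield is conjugate, with
determinant one, into the subfield group. -/
theorem exists_sl_conj [Fintype F] {p : ℕ} [Fact p.Prime] [CharP F p] [NeZero n] {r : ℕ} [hr : Fact r.Prime] (hrp : r ≠ p)
    {x : SL(n, F)} {w : F} (hw : w ≠ 0) {u : Matrix (Fin n) (Fin n) F}
    (hxu : (x : Matrix (Fin n) (Fin n) F) = w • u) (hu : u ^ r = 1)
    (h : Gen (Rat F₀ (Matrix.toLin' u)) (⊤ : Submodule F (Fin n → F)) n) :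
    ∃ P : SL(n, F), P⁻¹ * x * P ∈
      (subfieldSubgroup F₀ 1).comap (SpecialLinearGroup.toGL : SL(n, F) →* GL (Fin n) F) := by
  have hu' : u * u ^ (r - 1) = 1 := by rw [← pow_succ', Nat.sub_add_cancel hr.out.one_le, hu]
  have hu'' : u ^ (r - 1) * u = 1 := by rw [← pow_succ, Nat.sub_add_cancel hr.out.one_le, hu]
  let ug : GL (Fin n) F := ⟨u, u ^ (r - 1), hu', hu''⟩
  have hug : (orderOf ug).Coprime p := by
    refine Nat.Coprime.coprime_dvd_left (orderOf_dvd_of_pow_eq_one (n := r) ?_) ?_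
    · exact Units.ext (by rw [Units.val_pow_eq_pow_val]; exact hu)
    · exact (Nat.coprime_primes hr.out Fact.out).2 hrp
  obtain ⟨A, g, hA⟩ := exists_conj_of_gen F₀ ug.isUnit h
  have hdA : (A : Matrix (Fin n) (Fin n) F).det ≠ 0 :=
    ((Matrix.isUnit_iff_isUnit_det _).1 A.isUnit).ne_zero
  obtain ⟨C, hC, hCu⟩ := CfsgLib.Semisimple.exists_commute_det_eq p ug hug
    (A : Matrix (Fin n) (Fin n) F).det⁻¹ (inv_ne_zero hdA)
  refine LinFix.exists_conj_mem F₀ (A := A) (C := C) (g := g) (l := Units.mk0 w hw) ?_ ?_ (δ := 1)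
    (by rw [hC, mul_inv_cancel₀ hdA]; rfl)
  · rw [hxu, Matrix.mul_smul, hA, Matrix.smul_mul, Units.val_mk0]
  · have h : (C : Matrix (Fin n) (Fin n) F) * u = u * C := congrArg Units.val hCu
    rw [hxu, Matrix.mul_smul, h, Matrix.smul_mul]

/-- Data of a conjugate in the subfield group. -/
theorem exists_data {x : SL(n, F)} (h : ∃ P : SL(n, F), P⁻¹ * x * P ∈
      (subfieldSubgroup F₀ 1).comap (SpecialLinearGroup.toGL : SL(n, F) →* GL (Fin n) F)) :
    ∃ (A : GL (Fin n) F) (g : GL (Fin n) F₀) (l : Fˣ), (A : Matrix (Fin n) (Fin n) F) * x =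
      ((l : F) • (g : Matrix (Fin n) (Fin n) F₀).map F₀.subtype) * A := by
  obtain ⟨P, hP⟩ := h
  obtain ⟨g, l, hgl⟩ := (LinFix.mem_subfield_iff F₀ _).1 hP
  refine ⟨SpecialLinearGroup.toGL P⁻¹, g, l, ?_⟩
  rw [← hgl]
  change ((P⁻¹ : SL(n, F)) : Matrix (Fin n) (Fin n) F) * (x : Matrix (Fin n) (Fin n) F) =
    ((P⁻¹ * x * P : SL(n, F)) : Matrix (Fin n) (Fin n) F) * ((P⁻¹ : SL(n, F)) : Matrix (Fin n) (Fin n) F)
  exact congrArg Subtype.val (mul_inv_cancel_right (P⁻¹ * x) P).symm

/-- The scalar of a power lies in the subfield up to a power of the multiplier. -/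
theorem pow_scalar_mem [NeZero n] {r : ℕ} {c : F} {x : Matrix (Fin n) (Fin n) F} {A : GL (Fin n) F}
    {g : GL (Fin n) F₀} {l : Fˣ}
    (hA : (A : Matrix (Fin n) (Fin n) F) * x = ((l : F) • (g : Matrix (Fin n) (Fin n) F₀).map F₀.subtype) * A)
    (hx : x ^ r = c • 1) : c * ((l : F) ^ r)⁻¹ ∈ F₀ := by
  have h1 : (A : Matrix (Fin n) (Fin n) F) * x ^ r =
      ((l : F) • (g : Matrix (Fin n) (Fin n) F₀).map F₀.subtype) ^ r * A :=
    (show SemiconjBy (A : Matrix (Fin n) (Fin n) F) x _ from hA).pow_right r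
  rw [hx, Matrix.mul_smul, mul_one, _root_.smul_pow, ← Matrix.map_pow] at h1
  have h2 : c • (1 : Matrix (Fin n) (Fin n) F) =
      (l : F) ^ r • ((g : Matrix (Fin n) (Fin n) F₀) ^ r).map F₀.subtype := by
    have h3 := congrArg (· * ((A⁻¹ : GL (Fin n) F) : Matrix (Fin n) (Fin n) F)) h1
    simp only [Matrix.smul_mul, Units.mul_inv, mul_assoc, mul_one] at h3
    exact h3
  have h4 := congrFun (congrFun h2 0) 0
  simp only [Matrix.smul_apply, Matrix.one_apply_eq, smul_eq_mul, mul_one, Matrix.map_apply] at h4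
  rw [h4, mul_comm, ← mul_assoc, inv_mul_cancel₀ (pow_ne_zero _ l.ne_zero), one_mul]
  exact ((((g : Matrix (Fin n) (Fin n) F₀) ^ r)) 0 0).2

theorem map_aeval {R : Type*} [CommRing R] (σ : R →+* R) (M : Matrix (Fin n) (Fin n) R) (f : R[X]) :
    (aeval M f).map σ = aeval (M.map σ) (f.map σ) := by
  induction f using Polynomial.induction_on' with
  | add f g hf hg => rw [map_add, Matrix.map_add _ (map_add σ), hf, hg, Polynomial.map_add, map_add]
  | monomial k c =>
    rw [map_monomial, aeval_monomial, aeval_monomial, ← Algebra.smul_def, ← Algebra.smul_def, ← Matrix.map_pow]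
    ext i j
    simp

theorem aeval_semiconj {R : Type*} [CommRing R] {A x y : Matrix (Fin n) (Fin n) R} (h : A * x = y * A) (f : R[X]) :
    A * aeval x f = aeval y f * A := by
  induction f using Polynomial.induction_on' with
  | add f g hf hg => rw [map_add, map_add, mul_add, add_mul, hf, hg]
  | monomial k c =>
    rw [aeval_monomial, aeval_monomial, ← mul_assoc, ← Algebra.commutes, mul_assoc,
      ((show SemiconjBy A x y from h).pow_right k).eq, mul_assoc]

/-- Ranks of shifts are invariant under the Galois automorphism. -/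
theorem rank_shift_eq (σ : F →+* F) (hσ : ∀ a ∈ F₀, σ a = a) {x : Matrix (Fin n) (Fin n) F} {A : GL (Fin n) F}
    {g : GL (Fin n) F₀} {l : Fˣ}
    (hA : (A : Matrix (Fin n) (Fin n) F) * x = ((l : F) • (g : Matrix (Fin n) (Fin n) F₀).map F₀.subtype) * A)
    (a : F) :
    finrank F (LinearMap.range (Matrix.toLin' (x - ((l : F) * σ ((l : F)⁻¹ * a)) • 1))) =
      finrank F (LinearMap.range (Matrix.toLin' (x - a • 1))) := by
  set G := (g : Matrix (Fin n) (Fin n) F₀).map F₀.subtype with hG
  have hl := l.ne_zero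
  have key : ∀ b : F, finrank F (LinearMap.range (Matrix.toLin' (x - ((l : F) * b) • 1))) =
      finrank F (LinearMap.range (Matrix.toLin' (G - b • 1))) := by
    intro b
    have h1 : (A : Matrix (Fin n) (Fin n) F) * (x - ((l : F) * b) • 1) = ((l : F) • (G - b • 1)) * A := by
      rw [mul_sub, hA, Matrix.mul_smul, mul_one, smul_sub, smul_smul, sub_mul, Matrix.smul_mul (((l : F) * b)),
        one_mul]
    have h2 := LinFix.finrank_range_pow_conj A h1 1
    rw [pow_one, pow_one, map_smul, LinearMap.range_smul _ _ hl] at h2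
    exact h2
  have hfix : G.map σ = G := by
    ext i j
    exact hσ _ ((g : Matrix (Fin n) (Fin n) F₀) i j).2
  rw [key, show a = (l : F) * ((l : F)⁻¹ * a) by rw [← mul_assoc, mul_inv_cancel₀ hl, one_mul], key,
    ← mul_assoc (l : F)⁻¹, inv_mul_cancel₀ hl, one_mul]
  conv_lhs => rw [← hfix]
  rw [← LinFix.finrank_range_map σ (G - ((l : F)⁻¹ * a) • 1), Matrix.map_sub σ (map_sub σ)]
  have hb : ∀ b : F, ((b • 1 : Matrix (Fin n) (Fin n) F)).map σ = σ b • 1 := fun b => by
    ext i j
    rcases eq_or_ne i j with rfl | h <;> simp [*]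
  rw [hb]

/-- The shifted diagonal counts. -/
theorem diag_count_eq [DecidableEq F] (σ : F →+* F) (hσ : ∀ a ∈ F₀, σ a = a) (d : Fin n → F) {A : GL (Fin n) F}
    {g : GL (Fin n) F₀} {l : Fˣ}
    (hA : (A : Matrix (Fin n) (Fin n) F) * Matrix.diagonal d =
      ((l : F) • (g : Matrix (Fin n) (Fin n) F₀).map F₀.subtype) * A) (a : F) :
    (Finset.univ.filter fun j => d j = (l : F) * σ ((l : F)⁻¹ * a)).card =
      (Finset.univ.filter fun j => d j = a).card := by
  have hrk : ∀ b : F, finrank F (LinearMap.range (Matrix.toLin' (Matrix.diagonal d - b • 1))) +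
      (Finset.univ.filter fun j => d j = b).card = n := fun b => by
    rw [Matrix.smul_one_eq_diagonal, Matrix.diagonal_sub, Matrix.toLin'_apply', ← Matrix.rank, Matrix.rank_diagonal,
      Fintype.card_subtype]
    have h := Finset.card_filter_add_card_filter_not (s := (Finset.univ : Finset (Fin n))) (fun j => d j = b)
    rw [Finset.card_univ, Fintype.card_fin] at h
    rw [show (Finset.univ.filter fun j => d j - b ≠ 0) = Finset.univ.filter fun j => ¬ d j = b from
      Finset.filter_congr fun j _ => by rw [Ne, sub_eq_zero], add_comm]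
    exact h
  have h1 := hrk ((l : F) * σ ((l : F)⁻¹ * a))
  rw [rank_shift_eq F₀ σ hσ hA] at h1
  have h2 := hrk a
  omega

end CfsgLib.SubfieldFix
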